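import Groth.Agent.H14.RatVar.Retract
import Mathlib.RingTheory.Localization.AtPrime.Basic
import Mathlib.AlgebraicGeometry.Morphisms.FiniteType
import Mathlib.AlgebraicGeometry.FunctionField
import Mathlib.RingTheory.Ideal.Quotient.Operations

/-!
Retract rationality and lifting of points of local algebras.
-/

set_option autoImplicit false
set_option linter.style.haveILetI false

universe u

open CategoryTheory CategoryTheory.Limits AlgebraicGeometry

namespace Groth.Agent.H14.RatVar

variable {k : Type u} [Field k]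

variable (k) in
/-- The structure map of the affine space of a finite dimension. -/
noncomputable abbrev finStr (n : ℕ) : Spec (CommRingCat.of (MvPolynomial (Fin n) k)) ⟶ Spec (CommRingCat.of k) :=
  Spec.map (CommRingCat.ofHom (algebraMap k (MvPolynomial (Fin n) k)))

/-- A retraction on an open gives the standard form. -/
theorem assemble {X : Scheme.{u}} (f : X ⟶ Spec (CommRingCat.of k)) {n : ℕ} {E : Scheme.{u}}
    (i : E ⟶ Spec (CommRingCat.of (MvPolynomial (Fin n) k))) [IsOpenImmersion i] (q : E ⟶ X)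
    (hq : q ≫ f = i ≫ finStr k n) (U : X.Opens) (hU : (U : Set X).Nonempty)
    (a₁ : (U : Scheme.{u}) ⟶ E) (ha₁ : a₁ ≫ q = U.ι) :
    ∃ (U : X.Opens) (n : ℕ) (Y' : (Spec (CommRingCat.of (MvPolynomial (Fin n) k))).Opens)
        (a : (U : Scheme.{u}) ⟶ (Y' : Scheme.{u})) (b : (Y' : Scheme.{u}) ⟶ (U : Scheme.{u})),
        (U : Set X).Nonempty ∧ a ≫ b = 𝟙 (U : Scheme.{u}) ∧
        a ≫ Y'.ι ≫ Spec.map (CommRingCat.ofHom (algebraMap k (MvPolynomial (Fin n) k))) = U.ι ≫ f ∧
        b ≫ U.ι ≫ f = Y'.ι ≫ Spec.map (CommRingCat.ofHom (algebraMap k (MvPolynomial (Fin n) k))) := by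
  have hr : Set.range a₁ ⊆ Set.range (q ⁻¹ᵁ U).ι := by
    rw [Scheme.Opens.range_ι]
    rintro _ ⟨z, rfl⟩
    show q (a₁ z) ∈ U
    rw [← Scheme.Hom.comp_apply, ha₁]
    exact z.2
  let a₂ := IsOpenImmersion.lift (q ⁻¹ᵁ U).ι a₁ hr
  have ha₂ : a₂ ≫ (q ⁻¹ᵁ U).ι = a₁ := IsOpenImmersion.lift_fac _ _ _
  let e := i.isoImage (q ⁻¹ᵁ U)
  refine ⟨U, n, i ''ᵁ (q ⁻¹ᵁ U), a₂ ≫ e.hom, e.inv ≫ (q ∣_ U), hU, ?_, ?_, ?_⟩
  · rw [← cancel_mono U.ι, Category.id_comp]
    simp only [Category.assoc, e.hom_inv_id_assoc, morphismRestrict_ι]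
    rw [reassoc_of% ha₂, ha₁]
  · rw [Category.assoc, Scheme.Hom.isoImage_hom_ι_assoc, reassoc_of% ha₂, ← hq, reassoc_of% ha₁]
  · rw [Category.assoc, morphismRestrict_ι_assoc, hq]
    exact Scheme.Hom.isoImage_inv_ι_assoc _ _ _

/-- A morphism of the spectrum of a local ring lands in an open containing the image of the closed point. -/
theorem range_subset_of_closedPoint {A : Type u} [CommRing A] [IsLocalRing A] {Z : Scheme.{u}}
    (m : Spec (CommRingCat.of A) ⟶ Z) (W : Z.Opens) (h : m (IsLocalRing.closedPoint A) ∈ W) :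
    Set.range m ⊆ (W : Set Z) := by
  rintro _ ⟨z, rfl⟩
  exact (((IsLocalRing.specializes_closedPoint z)).map m.continuous).mem_open W.2 h

/-- The morphism of residue fields hits the closed point. -/
theorem residue_closedPoint {A : Type u} [CommRing A] [IsLocalRing A]
    (z : Spec (CommRingCat.of (IsLocalRing.ResidueField A))) :
    Spec.map (CommRingCat.ofHom (IsLocalRing.residue A)) z = IsLocalRing.closedPoint A := by
  apply PrimeSpectrum.ext
  show z.asIdeal.comap (IsLocalRing.residue A) = IsLocalRing.maximalIdeal A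
  haveI := z.2
  rw [Ideal.eq_bot_of_prime (K := IsLocalRing.ResidueField A) z.asIdeal, ← RingHom.ker_eq_comap_bot, IsLocalRing.ker_residue]

variable {X : Scheme.{u}} (f : X ⟶ Spec (CommRingCat.of k))

/-- Points of local algebras lift on a retract of an open of an affine space. -/
theorem lifts_of_retract (U : X.Opens) {n : ℕ} (Y : (Spec (CommRingCat.of (MvPolynomial (Fin n) k))).Opens)
    (a : (U : Scheme.{u}) ⟶ (Y : Scheme.{u})) (b : (Y : Scheme.{u}) ⟶ (U : Scheme.{u})) (hab : a ≫ b = 𝟙 _)
    (ha : a ≫ Y.ι ≫ finStr k n = U.ι ≫ f) (hb : b ≫ U.ι ≫ f = Y.ι ≫ finStr k n)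
    (A : Type u) [CommRing A] [IsLocalRing A] [Algebra k A]
    (g : Spec (CommRingCat.of (IsLocalRing.ResidueField A)) ⟶ (U : Scheme.{u}))
    (hg : g ≫ U.ι ≫ f = Spec.map (CommRingCat.ofHom ((IsLocalRing.residue A).comp (algebraMap k A)))) :
    ∃ g' : Spec (CommRingCat.of A) ⟶ (U : Scheme.{u}),
      Spec.map (CommRingCat.ofHom (IsLocalRing.residue A)) ≫ g' = g ∧
      g' ≫ U.ι ≫ f = Spec.map (CommRingCat.ofHom (algebraMap k A)) := by
  let ψ : CommRingCat.of (MvPolynomial (Fin n) k) ⟶ CommRingCat.of (IsLocalRing.ResidueField A) :=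
    Spec.preimage (g ≫ a ≫ Y.ι)
  have hψ : Spec.map ψ = g ≫ a ≫ Y.ι := Spec.map_preimage _
  have hψk : ψ.hom.comp (algebraMap k (MvPolynomial (Fin n) k)) = (IsLocalRing.residue A).comp (algebraMap k A) := by
    have : Spec.map (CommRingCat.ofHom (algebraMap k (MvPolynomial (Fin n) k)) ≫ ψ) =
        Spec.map (CommRingCat.ofHom ((IsLocalRing.residue A).comp (algebraMap k A))) := by
      rw [Spec.map_comp, hψ, ← hg, ← ha]
      simp only [Category.assoc]
    exact congrArg CommRingCat.Hom.hom (Spec.map_injective this)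
  choose c hc using fun i => IsLocalRing.residue_surjective (ψ (MvPolynomial.X i))
  let φ : MvPolynomial (Fin n) k →ₐ[k] A := MvPolynomial.aeval c
  have hφ : (IsLocalRing.residue A).comp φ.toRingHom = ψ.hom := by
    refine MvPolynomial.ringHom_ext (fun r => ?_) (fun i => ?_)
    · simpa [φ] using (RingHom.congr_fun hψk r).symm
    · simpa [φ] using hc i
  have hres : Spec.map (CommRingCat.ofHom (IsLocalRing.residue A)) ≫ Spec.map (CommRingCat.ofHom φ.toRingHom) =
      g ≫ a ≫ Y.ι := by
    rw [← Spec.map_comp, ← hψ, ← CommRingCat.ofHom_comp, hφ]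
    rfl
  have hY : Set.range (Spec.map (CommRingCat.ofHom φ.toRingHom)) ⊆ Set.range Y.ι := by
    rw [Scheme.Opens.range_ι]
    refine range_subset_of_closedPoint _ Y ?_
    let z : Spec (CommRingCat.of (IsLocalRing.ResidueField A)) := Classical.choice inferInstance
    rw [← residue_closedPoint z, ← Scheme.Hom.comp_apply, hres, Scheme.Hom.comp_apply, Scheme.Hom.comp_apply]
    exact (a (g z)).2
  let l := IsOpenImmersion.lift Y.ι _ hY
  have hl : l ≫ Y.ι = Spec.map (CommRingCat.ofHom φ.toRingHom) := IsOpenImmersion.lift_fac _ _ _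
  have hrl : Spec.map (CommRingCat.ofHom (IsLocalRing.residue A)) ≫ l = g ≫ a := by
    rw [← cancel_mono Y.ι, Category.assoc, hl, hres, Category.assoc]
  refine ⟨l ≫ b, by rw [reassoc_of% hrl, hab, Category.comp_id], ?_⟩
  rw [Category.assoc, hb, reassoc_of% hl, finStr, ← Spec.map_comp, ← CommRingCat.ofHom_comp]
  exact congrArg (fun r => Spec.map (CommRingCat.ofHom r)) φ.comp_algebraMap

/-- The canonical map of a quotient of a polynomial ring into the residue field of the local ring of its prime. -/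
theorem exists_toResidue {B : Type u} [CommRing B] [Algebra k B] {n : ℕ}
    (π : MvPolynomial (Fin n) k →ₐ[k] B) (hπ : Function.Surjective π) [(RingHom.ker π).IsPrime] :
    ∃ χ : B →ₐ[k] IsLocalRing.ResidueField (Localization.AtPrime (RingHom.ker π)),
      ∀ x, χ (π x) = IsLocalRing.residue _ (algebraMap _ (Localization.AtPrime (RingHom.ker π)) x) := by
  let r : MvPolynomial (Fin n) k →ₐ[k] IsLocalRing.ResidueField (Localization.AtPrime (RingHom.ker π)) :=
    IsScalarTower.toAlgHom k (MvPolynomial (Fin n) k) _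
  refine ⟨(Ideal.Quotient.liftₐ (RingHom.ker π) r fun x hx => ?_).comp
    (Ideal.quotientKerAlgEquivOfSurjective hπ).symm.toAlgHom, fun x => ?_⟩
  · show IsLocalRing.residue _ (algebraMap (MvPolynomial (Fin n) k) _ x) = 0
    rw [IsLocalRing.residue_eq_zero_iff]
    exact (IsLocalization.AtPrime.to_map_mem_maximal_iff _ (RingHom.ker π) x).2 hx
  · have : (Ideal.quotientKerAlgEquivOfSurjective hπ).symm (π x) = Ideal.Quotient.mk _ x := by
      rw [AlgEquiv.symm_apply_eq]
      rfl
    rw [AlgHom.comp_apply]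
    erw [this]
    rfl

/-- A lift to the local ring spreads out to a retraction on a basic open. -/
theorem exists_spread {B : Type u} [CommRing B] [IsDomain B] [Algebra k B] {n : ℕ}
    (π : MvPolynomial (Fin n) k →ₐ[k] B) (hπ : Function.Surjective π) [(RingHom.ker π).IsPrime]
    (χ : B →ₐ[k] IsLocalRing.ResidueField (Localization.AtPrime (RingHom.ker π)))
    (hχ : ∀ x, χ (π x) = IsLocalRing.residue _ (algebraMap _ (Localization.AtPrime (RingHom.ker π)) x))
    (β : B →ₐ[k] Localization.AtPrime (RingHom.ker π)) (hβ : ∀ b, IsLocalRing.residue _ (β b) = χ b) :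
    ∃ h : MvPolynomial (Fin n) k, π h ≠ 0 ∧ ∃ (γ : B →ₐ[k] Localization.Away h)
      (ρ : Localization.Away h →ₐ[k] Localization.Away (π h)), ∀ b, ρ (γ b) = algebraMap B (Localization.Away (π h)) b := by
  classical
  let P := RingHom.ker π
  choose num den hfrac using fun i => IsLocalization.exists_mk'_eq P.primeCompl (β (π (MvPolynomial.X i)))
  let h : MvPolynomial (Fin n) k := ∏ i, (den i : MvPolynomial (Fin n) k)
  have hh : h ∈ P.primeCompl := prod_mem fun i _ => (den i).2
  have hπh : π h ≠ 0 := fun e => hh (RingHom.mem_ker.2 e)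
  let j : Localization.Away h →+* Localization.AtPrime P :=
    IsLocalization.Away.lift h (g := algebraMap _ _) (IsLocalization.map_units _ ⟨h, hh⟩)
  have hj : ∀ x, j (algebraMap _ _ x) = algebraMap _ _ x := fun x => IsLocalization.Away.lift_eq _ _ _
  have hj0 : Function.Injective j := by
    rw [injective_iff_map_eq_zero]
    intro x hx
    obtain ⟨q, s, rfl⟩ := IsLocalization.exists_mk'_eq (Submonoid.powers h) x
    have e := congrArg j (IsLocalization.mk'_spec (Localization.Away h) q s)
    rw [map_mul, hx, zero_mul, hj] at e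
    have : q = 0 := IsLocalization.injective (Localization.AtPrime P) P.primeCompl_le_nonZeroDivisors (e.symm.trans (map_zero _).symm)
    rw [this, IsLocalization.mk'_zero]
  have hu : ∀ i, IsUnit (algebraMap (MvPolynomial (Fin n) k) (Localization.Away h) (den i)) := fun i =>
    isUnit_of_dvd_unit (map_dvd _ (Finset.dvd_prod_of_mem (fun i => (den i : MvPolynomial (Fin n) k)) (Finset.mem_univ i))) (IsLocalization.Away.algebraMap_isUnit h)
  let v : Fin n → Localization.Away h := fun i => algebraMap _ _ (num i) * ↑(hu i).unit⁻¹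
  have hv : ∀ i, j (v i) = β (π (MvPolynomial.X i)) := fun i => by
    have e1 : j (v i) * algebraMap _ _ (den i : MvPolynomial (Fin n) k) = algebraMap _ _ (num i) := by
      rw [← hj, ← map_mul, mul_assoc, IsUnit.val_inv_mul, mul_one, hj]
    have e2 := IsLocalization.mk'_spec (Localization.AtPrime P) (num i) (den i)
    rw [hfrac] at e2
    exact (IsLocalization.map_units (Localization.AtPrime P) (den i)).mul_left_injective (e1.trans e2.symm)
  have hjv : ∀ x, j (MvPolynomial.aeval v x) = β (π x) := by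
    suffices j.comp (MvPolynomial.aeval v).toRingHom = (β.comp π).toRingHom from RingHom.congr_fun this
    refine MvPolynomial.ringHom_ext (fun r => ?_) (fun i => ?_)
    · simp only [RingHom.comp_apply, AlgHom.toRingHom_eq_coe, RingHom.coe_coe, MvPolynomial.algHom_C]
      rw [IsScalarTower.algebraMap_apply k (MvPolynomial (Fin n) k) (Localization.Away h), hj,
        ← IsScalarTower.algebraMap_apply]
    · simpa using hv i
  let γ₀ : MvPolynomial (Fin n) k ⧸ P →ₐ[k] Localization.Away h :=
    Ideal.Quotient.liftₐ P (MvPolynomial.aeval v) fun x hx => hj0 (by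
      rw [hjv, show π x = 0 from hx, map_zero, map_zero])
  let γ : B →ₐ[k] Localization.Away h := γ₀.comp (Ideal.quotientKerAlgEquivOfSurjective hπ).symm.toAlgHom
  have hγ : ∀ b, j (γ b) = β b := fun b => by
    obtain ⟨x, rfl⟩ := hπ b
    have : (Ideal.quotientKerAlgEquivOfSurjective hπ).symm (π x) = Ideal.Quotient.mk _ x := by
      rw [AlgEquiv.symm_apply_eq]
      rfl
    show j (γ₀ ((Ideal.quotientKerAlgEquivOfSurjective hπ).symm (π x))) = _
    rw [this]
    exact hjv x
  let ρ : Localization.Away h →ₐ[k] Localization.Away (π h) :=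
    IsLocalization.liftAlgHom (M := Submonoid.powers h)
      (f := (IsScalarTower.toAlgHom k B (Localization.Away (π h))).comp π) (by
        rintro ⟨_, m, rfl⟩
        show IsUnit (algebraMap B (Localization.Away (π h)) (π (h ^ m)))
        rw [map_pow, map_pow]
        exact (IsLocalization.Away.algebraMap_isUnit (π h)).pow m)
  have hχ' : IsUnit (χ (π h)) := by
    rw [hχ]
    exact (IsLocalization.map_units _ (⟨h, hh⟩ : P.primeCompl)).map _
  let η : Localization.Away (π h) →+* IsLocalRing.ResidueField (Localization.AtPrime P) :=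
    IsLocalization.Away.lift (π h) (g := χ.toRingHom) hχ'
  have hη : Function.Injective η := by
    rw [injective_iff_map_eq_zero]
    intro x hx
    obtain ⟨q, s, rfl⟩ := IsLocalization.exists_mk'_eq (Submonoid.powers (π h)) x
    have e := congrArg η (IsLocalization.mk'_spec (Localization.Away (π h)) q s)
    rw [map_mul, hx, zero_mul, IsLocalization.Away.lift_eq] at e
    obtain ⟨y, rfl⟩ := hπ q
    have e' : IsLocalRing.residue _ (algebraMap _ (Localization.AtPrime P) y) = 0 := (hχ y).symm.trans e.symm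
    have : y ∈ P := (IsLocalization.AtPrime.to_map_mem_maximal_iff _ P y).1 ((IsLocalRing.residue_eq_zero_iff _).1 e')
    rw [show π y = 0 from this, IsLocalization.mk'_zero]
  have hηρ : η.comp ρ.toRingHom = (IsLocalRing.residue _).comp j := by
    refine IsLocalization.ringHom_ext (Submonoid.powers h) (RingHom.ext fun x => ?_)
    show η (ρ (algebraMap _ _ x)) = IsLocalRing.residue _ (j (algebraMap _ _ x))
    rw [hj, IsLocalization.liftAlgHom_apply, IsLocalization.lift_eq]
    exact (IsLocalization.Away.lift_eq _ _ _).trans (hχ x)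
  refine ⟨h, hπh, γ, ρ, fun b => hη ?_⟩
  rw [IsLocalization.Away.lift_eq]
  exact (RingHom.congr_fun hηρ (γ b)).trans ((congrArg _ (hγ b)).trans (hβ b))

/-- Lifting of points of local algebras gives a retraction on an open. -/
theorem retract_of_lifts [IsIntegral X] [LocallyOfFiniteType f] (V : X.Opens) (hV : (V : Set X).Nonempty)
    (hlift : ∀ (A : Type u) [CommRing A] [IsLocalRing A] [Algebra k A]
      (g : Spec (CommRingCat.of (IsLocalRing.ResidueField A)) ⟶ (V : Scheme.{u})),
      g ≫ V.ι ≫ f = Spec.map (CommRingCat.ofHom ((IsLocalRing.residue A).comp (algebraMap k A))) →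
      ∃ g' : Spec (CommRingCat.of A) ⟶ (V : Scheme.{u}),
        Spec.map (CommRingCat.ofHom (IsLocalRing.residue A)) ≫ g' = g ∧
        g' ≫ V.ι ≫ f = Spec.map (CommRingCat.ofHom (algebraMap k A))) :
    ∃ (U : X.Opens) (n : ℕ) (Y : (Spec (CommRingCat.of (MvPolynomial (Fin n) k))).Opens)
        (a : (U : Scheme.{u}) ⟶ (Y : Scheme.{u})) (b : (Y : Scheme.{u}) ⟶ (U : Scheme.{u})),
        (U : Set X).Nonempty ∧ a ≫ b = 𝟙 (U : Scheme.{u}) ∧
        a ≫ Y.ι ≫ Spec.map (CommRingCat.ofHom (algebraMap k (MvPolynomial (Fin n) k))) = U.ι ≫ f ∧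
        b ≫ U.ι ≫ f = Y.ι ≫ Spec.map (CommRingCat.ofHom (algebraMap k (MvPolynomial (Fin n) k))) := by
  obtain ⟨x, hx⟩ := hV
  obtain ⟨_, ⟨V₀, hV₀, rfl⟩, hxV₀, hle⟩ := X.isBasis_affineOpens.exists_subset_of_mem_open hx V.2
  let B : Type u := Γ(X, V₀)
  haveI : Nonempty (V₀ : Scheme.{u}) := ⟨⟨x, hxV₀⟩⟩
  haveI : IsDomain B := inferInstanceAs (IsDomain Γ(X, V₀))
  let c : Spec (CommRingCat.of B) ⟶ X := hV₀.fromSpec
  let α : CommRingCat.of k ⟶ CommRingCat.of B := Spec.preimage (c ≫ f)
  letI : Algebra k B := α.hom.toAlgebra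
  have hc : c ≫ f = Spec.map (CommRingCat.ofHom (algebraMap k B)) := (Spec.map_preimage (c ≫ f)).symm
  haveI : Algebra.FiniteType k B := by
    haveI : IsOpenImmersion c := hV₀.isOpenImmersion_fromSpec
    have : LocallyOfFiniteType (Spec.map (CommRingCat.ofHom (algebraMap k B))) := by
      rw [← hc]
      infer_instance
    exact RingHom.finiteType_algebraMap.1 ((HasRingHomProperty.Spec_iff (P := @LocallyOfFiniteType)).1 this)
  obtain ⟨n, π, hπ⟩ := Algebra.FiniteType.iff_quotient_mvPolynomial''.1 ‹Algebra.FiniteType k B›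
  haveI : (RingHom.ker π).IsPrime := RingHom.ker_isPrime _
  obtain ⟨χ, hχ⟩ := exists_toResidue π hπ
  haveI : IsOpenImmersion c := hV₀.isOpenImmersion_fromSpec
  have hcV : Set.range c ⊆ Set.range V.ι := by
    rw [Scheme.Opens.range_ι, show Set.range c = (V₀ : Set X) from hV₀.range_fromSpec]
    exact hle
  let cV := IsOpenImmersion.lift V.ι c hcV
  have hcV' : cV ≫ V.ι = c := IsOpenImmersion.lift_fac _ _ _
  obtain ⟨g', hg', hg'k⟩ := hlift (Localization.AtPrime (RingHom.ker π))
    (Spec.map (CommRingCat.ofHom χ.toRingHom) ≫ cV) (by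
      rw [Category.assoc, reassoc_of% hcV', hc, ← Spec.map_comp, ← CommRingCat.ofHom_comp]
      exact congrArg (fun r => Spec.map (CommRingCat.ofHom r)) (RingHom.ext fun r => χ.commutes r))
  have hr : Set.range (g' ≫ V.ι) ⊆ Set.range c := by
    rw [show Set.range c = (V₀ : Set X) from hV₀.range_fromSpec]
    refine range_subset_of_closedPoint _ V₀ ?_
    let z : Spec (CommRingCat.of (IsLocalRing.ResidueField (Localization.AtPrime (RingHom.ker π)))) :=
      Classical.choice inferInstance
    rw [← residue_closedPoint z, ← Scheme.Hom.comp_apply, ← Category.assoc, hg', Category.assoc, hcV',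
      Scheme.Hom.comp_apply]
    exact hV₀.range_fromSpec.le ⟨_, rfl⟩
  let l := IsOpenImmersion.lift c (g' ≫ V.ι) hr
  have hl : l ≫ c = g' ≫ V.ι := IsOpenImmersion.lift_fac _ _ _
  let β₀ : CommRingCat.of B ⟶ CommRingCat.of (Localization.AtPrime (RingHom.ker π)) := Spec.preimage l
  have hβ₀ : Spec.map β₀ = l := Spec.map_preimage _
  have hβk : β₀.hom.comp (algebraMap k B) = algebraMap k (Localization.AtPrime (RingHom.ker π)) := by
    have : Spec.map (CommRingCat.ofHom (algebraMap k B) ≫ β₀) =
        Spec.map (CommRingCat.ofHom (algebraMap k (Localization.AtPrime (RingHom.ker π)))) := by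
      rw [Spec.map_comp, hβ₀, ← hc, reassoc_of% hl, hg'k]
    exact congrArg CommRingCat.Hom.hom (Spec.map_injective this)
  let β : B →ₐ[k] Localization.AtPrime (RingHom.ker π) := { β₀.hom with commutes' := RingHom.congr_fun hβk }
  have hβ : ∀ b, IsLocalRing.residue _ (β b) = χ b := by
    have : β₀ ≫ CommRingCat.ofHom (IsLocalRing.residue _) = CommRingCat.ofHom χ.toRingHom := by
      refine Spec.map_injective ?_
      rw [Spec.map_comp, hβ₀, ← cancel_mono c, Category.assoc, hl, reassoc_of% hg', hcV']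
    exact fun b => RingHom.congr_fun (congrArg CommRingCat.Hom.hom this) b
  obtain ⟨h, hπh, γ, ρ, hργ⟩ := exists_spread π hπ χ hχ β hβ
  let i : Spec (CommRingCat.of (Localization.Away h)) ⟶ Spec (CommRingCat.of (MvPolynomial (Fin n) k)) :=
    Spec.map (CommRingCat.ofHom (algebraMap _ _))
  let jB : Spec (CommRingCat.of (Localization.Away (π h))) ⟶ Spec (CommRingCat.of B) :=
    Spec.map (CommRingCat.ofHom (algebraMap _ _))
  haveI : IsOpenImmersion i := IsOpenImmersion.of_isLocalization h
  haveI : IsOpenImmersion jB := IsOpenImmersion.of_isLocalization (π h)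
  let q : Spec (CommRingCat.of (Localization.Away h)) ⟶ X := Spec.map (CommRingCat.ofHom γ.toRingHom) ≫ c
  have hq : q ≫ f = i ≫ finStr k n := by
    rw [Category.assoc, hc, finStr, ← Spec.map_comp, ← Spec.map_comp, ← CommRingCat.ofHom_comp, ← CommRingCat.ofHom_comp]
    refine congrArg (fun r => Spec.map (CommRingCat.ofHom r)) (γ.comp_algebraMap.trans ?_)
    exact IsScalarTower.algebraMap_eq k (MvPolynomial (Fin n) k) (Localization.Away h)
  haveI : Nontrivial (Localization.Away (π h)) :=
    (IsLocalization.injective (Localization.Away (π h)) (powers_le_nonZeroDivisors_of_noZeroDivisors hπh)).nontrivial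
  let U : X.Opens := (jB ≫ c).opensRange
  have hU : (U : Set X).Nonempty :=
    ⟨(jB ≫ c) (Classical.choice inferInstance : PrimeSpectrum (Localization.Away (π h))), _, rfl⟩
  have key : Spec.map (CommRingCat.ofHom ρ.toRingHom) ≫ q = jB ≫ c := by
    rw [← Category.assoc, ← Spec.map_comp, ← CommRingCat.ofHom_comp]
    exact congrArg (fun r => Spec.map (CommRingCat.ofHom r) ≫ c) (RingHom.ext hργ)
  refine assemble f i q hq U hU ((jB ≫ c).isoOpensRange.inv ≫ Spec.map (CommRingCat.ofHom ρ.toRingHom)) ?_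
  rw [Category.assoc, key, Scheme.Hom.isoOpensRange_inv_comp]

end Groth.Agent.H14.RatVar
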