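import Mathlib.AlgebraicGeometry.AffineSpace
import Mathlib.AlgebraicGeometry.Birational.Birational
import Mathlib.AlgebraicGeometry.Morphisms.FiniteType
import Mathlib.Algebra.MvPolynomial.Funext
import Mathlib.AlgebraicGeometry.Pullbacks
import Mathlib.RingTheory.Localization.Away.Basic

/-!
A factor of a rational variety over an infinite field is retract rational.
-/

set_option autoImplicit false
set_option linter.style.haveILetI false

universe u

open CategoryTheory CategoryTheory.Limits AlgebraicGeometry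

namespace Groth.Agent.H14.RatVar

variable {k : Type u} [Field k]

/-- A finitely generated localisation of a polynomial ring over an infinite field has finitely many variables. -/
theorem finite_vars [Infinite k] {σ : Type u} (p : MvPolynomial σ k) (hp : p ≠ 0)
    [Algebra.FiniteType k (Localization.Away p)] : Finite σ := by
  classical
  obtain ⟨S, hS⟩ := (‹Algebra.FiniteType k (Localization.Away p)›).out
  have hc : ∃ c : σ → k, MvPolynomial.eval c p ≠ 0 := by
    by_contra! h
    exact hp (MvPolynomial.funext fun c => by rw [h c, map_zero])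
  obtain ⟨c, hc⟩ := hc
  choose num den h using fun a : Localization.Away p => IsLocalization.exists_mk'_eq (Submonoid.powers p) a
  let T : Finset σ := p.vars ∪ S.biUnion fun a => (num a).vars ∪ (den a : MvPolynomial σ k).vars
  suffices hall : ∀ i : σ, i ∈ T from @Finite.of_fintype σ ⟨T, hall⟩
  intro i
  by_contra hi
  simp only [T, Finset.mem_union, Finset.mem_biUnion, not_or, not_exists, not_and] at hi
  let c' : σ → k := Function.update c i (c i + 1)
  have hev : ∀ q : MvPolynomial σ k, i ∉ q.vars → MvPolynomial.eval c' q = MvPolynomial.eval c q := fun q hq =>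
    MvPolynomial.eval₂Hom_congr' rfl (fun j hj _ => by
      exact Function.update_of_ne (fun e : j = i => hq (e ▸ hj)) _ _) rfl
  have hu : ∀ d : σ → k, MvPolynomial.eval d p ≠ 0 →
      ∀ y : Submonoid.powers p, IsUnit ((MvPolynomial.aeval d : MvPolynomial σ k →ₐ[k] k) (y : MvPolynomial σ k)) := by
    rintro d hd ⟨_, m, rfl⟩
    rw [map_pow]
    exact (isUnit_iff_ne_zero.2 (show (MvPolynomial.aeval d : MvPolynomial σ k →ₐ[k] k) p ≠ 0 by rw [MvPolynomial.aeval_eq_eval]; exact hd)).pow _
  have hc' : MvPolynomial.eval c' p ≠ 0 := by rw [hev p hi.1]; exact hc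
  let e : Localization.Away p →ₐ[k] k := IsLocalization.liftAlgHom (hu c hc)
  let e' : Localization.Away p →ₐ[k] k := IsLocalization.liftAlgHom (hu c' hc')
  have hval : ∀ (d : σ → k) (hd : MvPolynomial.eval d p ≠ 0) (q : MvPolynomial σ k),
      (IsLocalization.liftAlgHom (S := Localization.Away p) (hu d hd)) (algebraMap _ _ q) = MvPolynomial.eval d q := fun d hd q => by
    rw [IsLocalization.liftAlgHom_apply, IsLocalization.lift_eq]
    exact congrFun (MvPolynomial.aeval_eq_eval d) q
  have hee : e = e' := AlgHom.ext_of_adjoin_eq_top hS fun a ha => by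
    have hspec := IsLocalization.mk'_spec (Localization.Away p) (num a) (den a)
    rw [h a] at hspec
    have h1 := congrArg e hspec
    have h2 := congrArg e' hspec
    rw [map_mul, hval c hc, hval c hc] at h1
    rw [map_mul, hval c' hc', hval c' hc'] at h2
    rw [hev _ (hi.2 a ha).1, hev _ (hi.2 a ha).2] at h2
    have hne : MvPolynomial.eval c (den a : MvPolynomial σ k) ≠ 0 := by
      obtain ⟨m, hm⟩ := (den a).2
      rw [← hm, map_pow]
      exact pow_ne_zero _ hc
    exact mul_right_cancel₀ hne (h1.trans h2.symm)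
  have h3 : MvPolynomial.eval c (MvPolynomial.X i) = MvPolynomial.eval c' (MvPolynomial.X i) :=
    (hval c hc _).symm.trans ((congrArg (fun e : Localization.Away p →ₐ[k] k =>
      e (algebraMap _ _ (MvPolynomial.X i))) hee).trans (hval c' hc' _))
  simp [c'] at h3

variable (k) in
/-- The structure map of an affine space. -/
noncomputable abbrev polyStr (σ : Type u) :
    Spec (CommRingCat.of (MvPolynomial σ k)) ⟶ Spec (CommRingCat.of k) :=
  Spec.map (CommRingCat.ofHom (algebraMap k (MvPolynomial σ k)))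

/-- A non-empty open of an affine space contains a basic open of a non-zero polynomial. -/
theorem exists_basicOpen {σ : Type u} (W : (Spec (CommRingCat.of (MvPolynomial σ k))).Opens)
    (hW : (W : Set (Spec (CommRingCat.of (MvPolynomial σ k)))).Nonempty) :
    ∃ p : MvPolynomial σ k, p ≠ 0 ∧ PrimeSpectrum.basicOpen p ≤ W := by
  obtain ⟨x, hx⟩ := hW
  obtain ⟨_, ⟨p, rfl⟩, hxp, hp⟩ :=
    PrimeSpectrum.isTopologicalBasis_basic_opens.exists_subset_of_mem_open hx W.2
  refine ⟨p, ?_, hp⟩
  rintro rfl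
  exact hxp (x.asIdeal.zero_mem)

theorem range_away {σ : Type u} (p : MvPolynomial σ k) :
    Set.range (Spec.map (CommRingCat.ofHom (algebraMap (MvPolynomial σ k) (Localization.Away p)))) =
      SetLike.coe (PrimeSpectrum.basicOpen p) :=
  PrimeSpectrum.localization_away_comap_range _ p

/-- An open of an affine space of finite type has finitely many variables, and contains a rational point. -/
theorem finite_and_point [Infinite k] {σ : Type u} (W : (Spec (CommRingCat.of (MvPolynomial σ k))).Opens)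
    (hW : (W : Set (Spec (CommRingCat.of (MvPolynomial σ k)))).Nonempty)
    [LocallyOfFiniteType (W.ι ≫ polyStr k σ)] :
    Finite σ ∧ ∃ w : Spec (CommRingCat.of k) ⟶ (W : Scheme.{u}), w ≫ W.ι ≫ polyStr k σ = 𝟙 _ := by
  classical
  obtain ⟨p, hp0, hp⟩ := exists_basicOpen W hW
  let j : Spec (CommRingCat.of (Localization.Away p)) ⟶ Spec (CommRingCat.of (MvPolynomial σ k)) :=
    Spec.map (CommRingCat.ofHom (algebraMap (MvPolynomial σ k) (Localization.Away p)))
  haveI : IsOpenImmersion j := IsOpenImmersion.of_isLocalization p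
  have hr : Set.range j ⊆ Set.range W.ι := by
    rw [range_away p, Scheme.Opens.range_ι]
    exact hp
  let l := IsOpenImmersion.lift W.ι j hr
  have hl : l ≫ W.ι = j := IsOpenImmersion.lift_fac _ _ _
  haveI : IsOpenImmersion l := by
    have : IsOpenImmersion (l ≫ W.ι) := by rw [hl]; infer_instance
    exact IsOpenImmersion.of_comp l W.ι
  have hstr : l ≫ W.ι ≫ polyStr k σ = Spec.map (CommRingCat.ofHom (algebraMap k (Localization.Away p))) := by
    rw [reassoc_of% hl, polyStr, ← Spec.map_comp, ← CommRingCat.ofHom_comp, ← IsScalarTower.algebraMap_eq]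
  have hft : LocallyOfFiniteType (Spec.map (CommRingCat.ofHom (algebraMap k (Localization.Away p)))) := by
    rw [← hstr]
    infer_instance
  haveI : Algebra.FiniteType k (Localization.Away p) :=
    RingHom.finiteType_algebraMap.1 ((HasRingHomProperty.Spec_iff (P := @LocallyOfFiniteType)).1 hft)
  refine ⟨finite_vars p hp0, ?_⟩
  have hc : ∃ c : σ → k, MvPolynomial.eval c p ≠ 0 := by
    by_contra! h
    exact hp0 (MvPolynomial.funext fun c => by rw [h c, map_zero])
  obtain ⟨c, hc⟩ := hc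
  let e : Localization.Away p →+* k := IsLocalization.Away.lift p (g := MvPolynomial.eval c) (isUnit_iff_ne_zero.2 hc)
  refine ⟨Spec.map (CommRingCat.ofHom e) ≫ l, ?_⟩
  rw [Category.assoc, hstr, ← Spec.map_comp, ← CommRingCat.ofHom_comp]
  have : e.comp (algebraMap k (Localization.Away p)) = RingHom.id k := by
    ext r
    rw [RingHom.comp_apply, IsScalarTower.algebraMap_apply k (MvPolynomial σ k) (Localization.Away p),
      IsLocalization.Away.lift_eq]
    simp
  rw [this, CommRingCat.ofHom_id, Spec.map_id]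

/-- A factor of a variety birational to an affine space is retract rational. -/
theorem retract [Infinite k] {X Y : Scheme.{u}} (f : X ⟶ Spec (CommRingCat.of k)) (g : Y ⟶ Spec (CommRingCat.of k))
    [LocallyOfFiniteType f] [LocallyOfFiniteType g] {σ : Type u}
    (W : (pullback f g).Opens) (hW : (W : Set ↥(pullback f g)).Nonempty)
    (E : (Spec (CommRingCat.of (MvPolynomial σ k))).Opens) (φ : (W : Scheme.{u}) ≅ (E : Scheme.{u}))
    (hφ : φ.hom ≫ E.ι ≫ polyStr k σ = W.ι ≫ pullback.fst f g ≫ f) :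
    ∃ (U : X.Opens) (n : ℕ) (Y' : (Spec (CommRingCat.of (MvPolynomial (Fin n) k))).Opens)
        (a : (U : Scheme.{u}) ⟶ (Y' : Scheme.{u})) (b : (Y' : Scheme.{u}) ⟶ (U : Scheme.{u})),
        (U : Set X).Nonempty ∧ a ≫ b = 𝟙 (U : Scheme.{u}) ∧
        a ≫ Y'.ι ≫ Spec.map (CommRingCat.ofHom (algebraMap k (MvPolynomial (Fin n) k))) = U.ι ≫ f ∧
        b ≫ U.ι ≫ f = Y'.ι ≫ Spec.map (CommRingCat.ofHom (algebraMap k (MvPolynomial (Fin n) k))) := by
  have hinv : φ.inv ≫ W.ι ≫ pullback.fst f g ≫ f = E.ι ≫ polyStr k σ := by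
    rw [← hφ, φ.inv_hom_id_assoc]
  haveI : LocallyOfFiniteType (E.ι ≫ polyStr k σ) := by
    rw [← hinv]
    infer_instance
  have hE : (E : Set (Spec (CommRingCat.of (MvPolynomial σ k)))).Nonempty := by
    obtain ⟨x, hx⟩ := hW
    exact ⟨_, (φ.hom ⟨x, hx⟩).2⟩
  obtain ⟨hfin, w, hw⟩ := finite_and_point E hE
  haveI := Fintype.ofFinite σ
  let ε : MvPolynomial (Fin (Fintype.card σ)) k ≃ₐ[k] MvPolynomial σ k :=
    MvPolynomial.renameEquiv k (Fintype.equivFin σ).symm
  let i : (E : Scheme.{u}) ⟶ Spec (CommRingCat.of (MvPolynomial (Fin (Fintype.card σ)) k)) :=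
    E.ι ≫ Spec.map (CommRingCat.ofHom ε.toRingEquiv.toRingHom)
  haveI : IsIso (CommRingCat.ofHom ε.toRingEquiv.toRingHom) :=
    inferInstanceAs (IsIso ε.toRingEquiv.toCommRingCatIso.hom)
  have hi : i ≫ Spec.map (CommRingCat.ofHom (algebraMap k (MvPolynomial (Fin (Fintype.card σ)) k))) = E.ι ≫ polyStr k σ := by
    rw [Category.assoc, ← Spec.map_comp, ← CommRingCat.ofHom_comp]
    congr 3
    exact RingHom.ext fun r => ε.commutes r
  let x₀ : Spec (CommRingCat.of k) ⟶ pullback f g := w ≫ φ.inv ≫ W.ι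
  have hx₀ : x₀ ≫ pullback.fst f g ≫ f = 𝟙 _ := by rw [Category.assoc, Category.assoc, hinv, hw]
  let y₀ : Spec (CommRingCat.of k) ⟶ Y := x₀ ≫ pullback.snd f g
  let s : X ⟶ pullback f g := pullback.lift (𝟙 X) (f ≫ y₀)
    (by rw [Category.id_comp, Category.assoc, Category.assoc, ← pullback.condition, hx₀, Category.comp_id])
  have hsx : (x₀ ≫ pullback.fst f g) ≫ s = x₀ := by
    apply pullback.hom_ext
    · rw [Category.assoc, pullback.lift_fst, Category.comp_id]
    · rw [Category.assoc, pullback.lift_snd, Category.assoc, reassoc_of% hx₀]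
  let U : X.Opens := s ⁻¹ᵁ W
  have hU : (U : Set X).Nonempty := by
    let pt : Spec (CommRingCat.of k) := Classical.choice inferInstance
    refine ⟨(x₀ ≫ pullback.fst f g) pt, ?_⟩
    show s ((x₀ ≫ pullback.fst f g) pt) ∈ W
    rw [← Scheme.Hom.comp_apply, hsx]
    exact ((w ≫ φ.inv) pt).2
  let q : (E : Scheme.{u}) ⟶ X := φ.inv ≫ W.ι ≫ pullback.fst f g
  let a₁ : (U : Scheme.{u}) ⟶ (E : Scheme.{u}) := (s ∣_ W) ≫ φ.hom
  have ha₁ : a₁ ≫ q = U.ι := by
    simp only [a₁, q, Category.assoc, φ.hom_inv_id_assoc]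
    rw [morphismRestrict_ι_assoc, pullback.lift_fst, Category.comp_id]
  have hr : Set.range a₁ ⊆ Set.range (q ⁻¹ᵁ U).ι := by
    rw [Scheme.Opens.range_ι]
    rintro _ ⟨z, rfl⟩
    show q (a₁ z) ∈ U
    rw [← Scheme.Hom.comp_apply, ha₁]
    exact z.2
  let a₂ := IsOpenImmersion.lift (q ⁻¹ᵁ U).ι a₁ hr
  have ha₂ : a₂ ≫ (q ⁻¹ᵁ U).ι = a₁ := IsOpenImmersion.lift_fac _ _ _
  let e := i.isoImage (q ⁻¹ᵁ U)
  refine ⟨U, _, i ''ᵁ (q ⁻¹ᵁ U), a₂ ≫ e.hom, e.inv ≫ (q ∣_ U), hU, ?_, ?_, ?_⟩
  · rw [← cancel_mono U.ι, Category.id_comp]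
    simp only [Category.assoc, e.hom_inv_id_assoc, morphismRestrict_ι]
    rw [reassoc_of% ha₂, ha₁]
  · rw [Category.assoc, Scheme.Hom.isoImage_hom_ι_assoc, hi, reassoc_of% ha₂, ← hinv]
    exact (congrArg (· ≫ f) ha₁) |> fun h => by simpa [q] using h
  · rw [Category.assoc, morphismRestrict_ι_assoc, show q ≫ f = E.ι ≫ polyStr k σ by simpa [q] using hinv, ← hi]
    exact Scheme.Hom.isoImage_inv_ι_assoc _ _ _

/-- A factor of a rational variety over an infinite field is retract rational. -/
theorem retract_of_isRationalOver [Infinite k] {X Y : Scheme.{u}} (f : X ⟶ Spec (CommRingCat.of k))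
    (g : Y ⟶ Spec (CommRingCat.of k)) [LocallyOfFiniteType f] [LocallyOfFiniteType g] [Nonempty ↥(pullback f g)]
    [Scheme.IsRationalOver (pullback.fst f g ≫ f)] :
    ∃ (U : X.Opens) (n : ℕ) (Y' : (Spec (CommRingCat.of (MvPolynomial (Fin n) k))).Opens)
        (a : (U : Scheme.{u}) ⟶ (Y' : Scheme.{u})) (b : (Y' : Scheme.{u}) ⟶ (U : Scheme.{u})),
        (U : Set X).Nonempty ∧ a ≫ b = 𝟙 (U : Scheme.{u}) ∧
        a ≫ Y'.ι ≫ Spec.map (CommRingCat.ofHom (algebraMap k (MvPolynomial (Fin n) k))) = U.ι ≫ f ∧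
        b ≫ U.ι ≫ f = Y'.ι ≫ Spec.map (CommRingCat.ofHom (algebraMap k (MvPolynomial (Fin n) k))) := by
  obtain ⟨σ, φ, hφ⟩ := Scheme.IsRationalOver.exists_birationalOver_affineSpace (pullback.fst f g ≫ f)
  let ε := AffineSpace.SpecIso σ (CommRingCat.of k)
  haveI : IsIso ε.hom := inferInstance
  let e := ε.hom.isoImage φ.target
  refine retract f g φ.source (φ.dense_source.nonempty) (ε.hom ''ᵁ φ.target) (φ.iso ≪≫ e) ?_
  have h1 : φ.iso.hom ≫ φ.target.ι ≫ (𝔸(σ; Spec (CommRingCat.of k)) ↘ Spec (CommRingCat.of k)) =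
      φ.source.ι ≫ pullback.fst f g ≫ f := hφ
  rw [Iso.trans_hom, Category.assoc, Scheme.Hom.isoImage_hom_ι_assoc, ← h1]
  congr 2
  rw [polyStr, MvPolynomial.algebraMap_eq]
  refine (congrArg (ε.hom ≫ ·) (AffineSpace.SpecIso_inv_over (n := σ) (CommRingCat.of k)).symm).trans ?_
  exact ε.hom_inv_id_assoc _

end Groth.Agent.H14.RatVar
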